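import Groth.Prelude.Def_HRes
import Groth.Agent.Etcore.ExtAdj

set_option autoImplicit false
universe u

namespace K836.HResPull

open CategoryTheory CategoryTheory.Limits AlgebraicGeometry Opposite Abelian

variable (K : Precoverage Scheme.{u}) {S T T' : Scheme.{u}}

/-- the constant sheaf -/
noncomputable abbrev cst (S : Scheme.{u}) (M : AddCommGrpCat.{u + 1}) : BigSite.Ab K S :=
  (constantSheaf (QuotSh.J K S) AddCommGrpCat.{u + 1}).obj M

/-- the unit of the constant sheaf -/
noncomputable def eta (S : Scheme.{u}) (M : AddCommGrpCat.{u + 1}) (U : Over S) :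
    M ⟶ (cst K S M).obj.obj (op U) :=
  (toSheafify (QuotSh.J K S) ((Functor.const _).obj M)).app (op U)

/-- the defining property of the inverse of `pullConst` -/
theorem eta_pullConst (f : T ⟶ S) (M : AddCommGrpCat.{u + 1}) (U : Over T) :
    eta K T M U ≫ (HRes.pullConst K f M).inv.hom.app (op U) = eta K S M ((Over.map f).obj U) :=
  congrArg (fun τ => τ.app (op U)) ((Over.map f).toSheafify_pullbackSheafificationCompatibility
    AddCommGrpCat.{u + 1} (QuotSh.J K T) (QuotSh.J K S) ((Functor.const _).obj M))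

/-- two morphisms from the constant sheaf agreeing on constant sections agree -/
theorem const_hom_ext {M : AddCommGrpCat.{u + 1}} {G : BigSite.Ab K S}
    (a b : cst K S M ⟶ G)
    (h : ∀ U : Over S, eta K S M U ≫ a.hom.app (op U) = eta K S M U ≫ b.hom.app (op U)) : a = b := by
  apply Sheaf.hom_ext
  apply sheafify_hom_ext (QuotSh.J K S) _ _ G.property
  ext1
  funext U
  exact h U.unop

theorem eta_map (M : AddCommGrpCat.{u + 1}) {U V : Over S} (g : U ⟶ V) :
    eta K S M V ≫ (cst K S M).obj.map g.op = eta K S M U := by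
  have h := (toSheafify (QuotSh.J K S) ((Functor.const (Over S)ᵒᵖ).obj M)).naturality g.op
  exact h.symm.trans (Category.id_comp _)

theorem pullConst_id (M : AddCommGrpCat.{u + 1}) :
    (HRes.pullConst K (𝟙 S) M).inv ≫
      (K.toGrothendieck.overMapPullbackId AddCommGrpCat.{u + 1} S).hom.app (cst K S M) = 𝟙 (cst K S M) := by
  apply const_hom_ext
  intro U
  have h1 : ((HRes.pullConst K (𝟙 S) M).inv ≫
      (K.toGrothendieck.overMapPullbackId AddCommGrpCat.{u + 1} S).hom.app (cst K S M)).hom.app (op U) =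
      (HRes.pullConst K (𝟙 S) M).inv.hom.app (op U) ≫
        ((K.toGrothendieck.overMapPullbackId AddCommGrpCat.{u + 1} S).hom.app (cst K S M)).hom.app (op U) :=
    rfl
  have h2 : (𝟙 (cst K S M) : cst K S M ⟶ cst K S M).hom.app (op U) = 𝟙 ((cst K S M).obj.obj (op U)) := rfl
  rw [h1, h2, Category.comp_id, ← Category.assoc, eta_pullConst,
    GrothendieckTopology.overMapPullbackId_hom_app_hom_app]
  exact eta_map K M _

theorem pullConst_comp (f : T ⟶ S) (g : T' ⟶ T) (M : AddCommGrpCat.{u + 1}) :
    (HRes.pullConst K g M).inv ≫ (BigSite.pullBig K g AddCommGrpCat.{u + 1}).map (HRes.pullConst K f M).inv ≫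
      (K.toGrothendieck.overMapPullbackComp AddCommGrpCat.{u + 1} g f).hom.app (cst K S M) =
    (HRes.pullConst K (g ≫ f) M).inv := by
  apply const_hom_ext
  intro U
  have h1 : ((HRes.pullConst K g M).inv ≫
      (BigSite.pullBig K g AddCommGrpCat.{u + 1}).map (HRes.pullConst K f M).inv ≫
      (K.toGrothendieck.overMapPullbackComp AddCommGrpCat.{u + 1} g f).hom.app (cst K S M)).hom.app (op U) =
      (HRes.pullConst K g M).inv.hom.app (op U) ≫
        (HRes.pullConst K f M).inv.hom.app (op ((Over.map g).obj U)) ≫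
        ((K.toGrothendieck.overMapPullbackComp AddCommGrpCat.{u + 1} g f).hom.app
          (cst K S M)).hom.app (op U) :=
    rfl
  have e1 := eta_pullConst K g M U
  have e2 := eta_pullConst K f M ((Over.map g).obj U)
  rw [h1, eta_pullConst]
  refine (Category.assoc _ _ _).symm.trans ?_
  refine (congrArg (· ≫ ((HRes.pullConst K f M).inv.hom.app (op ((Over.map g).obj U)) ≫
        ((K.toGrothendieck.overMapPullbackComp AddCommGrpCat.{u + 1} g f).hom.app
          (cst K S M)).hom.app (op U))) e1).trans ?_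
  refine (Category.assoc _ _ _).symm.trans ?_
  refine (congrArg (· ≫ ((K.toGrothendieck.overMapPullbackComp AddCommGrpCat.{u + 1} g f).hom.app
          (cst K S M)).hom.app (op U)) e2).trans ?_
  rw [GrothendieckTopology.overMapPullbackComp_hom_app_hom_app]
  exact eta_map K M _

/-- the identity law -/
theorem pull_id (F : BigSite.Ab K S) (n : ℕ) (x : BigSite.H K S F n) :
    Sheaf.H.map ((K.toGrothendieck.overMapPullbackId AddCommGrpCat.{u + 1} S).hom.app F) n
      (HRes.pull K (𝟙 S) F n x) = x := by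
  rw [HRes.pull_apply, Sheaf.H.map_apply, Ext.comp_assoc_of_third_deg_zero]
  have h := Groth.Agent.Etcore.ExtAdj.mapExactFunctor_nat
    (τ := (K.toGrothendieck.overMapPullbackId AddCommGrpCat.{u + 1} S).hom) x
  rw [h, Groth.Agent.Etcore.ExtAdj.mapExactFunctor_id, Ext.mk₀_comp_mk₀_assoc]
  erw [pullConst_id]
  rw [Ext.mk₀_id_comp]

/-- the composition law -/
theorem pull_comp (f : T ⟶ S) (g : T' ⟶ T) (F : BigSite.Ab K S) (n : ℕ) (x : BigSite.H K S F n) :
    HRes.pull K (g ≫ f) F n x =
      Sheaf.H.map ((K.toGrothendieck.overMapPullbackComp AddCommGrpCat.{u + 1} g f).hom.app F) n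
        (HRes.pull K g ((BigSite.pullBig K f AddCommGrpCat.{u + 1}).obj F) n (HRes.pull K f F n x)) := by
  rw [HRes.pull_apply, HRes.pull_apply, HRes.pull_apply, Sheaf.H.map_apply, Ext.mapExactFunctor_comp,
    Ext.mapExactFunctor_mk₀]
  have h := Groth.Agent.Etcore.ExtAdj.mapExactFunctor_nat
    (τ := (K.toGrothendieck.overMapPullbackComp AddCommGrpCat.{u + 1} g f).hom) x
  have h' := Groth.Agent.Etcore.ExtAdj.mapExactFunctor_compFunctor
    (BigSite.pullBig K f AddCommGrpCat.{u + 1}) (BigSite.pullBig K g AddCommGrpCat.{u + 1}) x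
  rw [← h', Ext.comp_assoc_of_third_deg_zero, Ext.comp_assoc_of_third_deg_zero, h,
    Ext.mk₀_comp_mk₀_assoc, Ext.mk₀_comp_mk₀_assoc]
  congr 2
  exact (pullConst_comp K f g _).symm

end K836.HResPull
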